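import Groth.Agent.EGA43.QuasiHomeo.Sheaves
import Mathlib.Algebra.Category.Grp.Colimits

/-!
# Inverse image of sheaves is an equivalence iff the map is a quasi-homeomorphism
-/

set_option autoImplicit false
set_option linter.style.haveILetI false

universe u v w

open CategoryTheory CategoryTheory.Limits TopologicalSpace Opposite

namespace Groth.Agent.EGA43.QuasiHomeo

variable {X₀ X : TopCat.{u}} (f : X₀ ⟶ X)

theorem pullback_isEquivalence_type (h : Function.Bijective fun U : Opens X => (Opens.map f).obj U) :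
    (TopCat.Sheaf.pullback (Type u) f).IsEquivalence := by
  haveI := isDenseSubsite_map f h
  haveI : (TopCat.Sheaf.pushforward (Type u) f).IsEquivalence :=
    inferInstanceAs ((Opens.map f).sheafPushforwardContinuous (Type u) (Opens.grothendieckTopology X)
      (Opens.grothendieckTopology X₀)).IsEquivalence
  exact (TopCat.Sheaf.pullbackPushforwardAdjunction (Type u) f).isEquivalence_left_of_isEquivalence_right

theorem pullback_isEquivalence_ab (h : Function.Bijective fun U : Opens X => (Opens.map f).obj U) :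
    (TopCat.Sheaf.pullback AddCommGrpCat.{u} f).IsEquivalence := by
  haveI := isDenseSubsite_map f h
  haveI : (TopCat.Sheaf.pushforward AddCommGrpCat.{u} f).IsEquivalence :=
    inferInstanceAs ((Opens.map f).sheafPushforwardContinuous AddCommGrpCat.{u} (Opens.grothendieckTopology X)
      (Opens.grothendieckTopology X₀)).IsEquivalence
  exact (TopCat.Sheaf.pullbackPushforwardAdjunction AddCommGrpCat.{u} f).isEquivalence_left_of_isEquivalence_right

section

variable {A : Type v} [Category.{w} A]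

/-- If pushforward is essentially surjective, sections do not distinguish opens with equal preimages. -/
theorem isIso_map_of_essSurj [(TopCat.Sheaf.pushforward A f).EssSurj] {U V : Opens X} (hle : U ≤ V)
    (he : (Opens.map f).obj U = (Opens.map f).obj V) (F : TopCat.Sheaf A X) :
    IsIso (F.obj.map (homOfLE hle).op) := by
  let e := (TopCat.Sheaf.forget A X).mapIso ((TopCat.Sheaf.pushforward A f).objObjPreimageIso F)
  have h1 : IsIso (((TopCat.Sheaf.pushforward A f).objPreimage F).obj.map ((Opens.map f).map (homOfLE hle)).op) := by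
    have h2 : ((Opens.map f).map (homOfLE hle)).op = eqToHom (congrArg op he.symm) := Subsingleton.elim _ _
    rw [h2, eqToHom_map]
    infer_instance
  show IsIso (((TopCat.Sheaf.forget A X).obj F).map (homOfLE hle).op)
  rw [← NatIso.naturality_1 e (homOfLE hle).op]
  haveI : IsIso (((TopCat.Sheaf.forget A X).obj ((TopCat.Sheaf.pushforward A f).obj
      ((TopCat.Sheaf.pushforward A f).objPreimage F))).map (homOfLE hle).op) := h1
  infer_instance

end

theorem injective_of_types [(TopCat.Sheaf.pullback (Type u) f).IsEquivalence] :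
    Function.Injective fun U : Opens X => (Opens.map f).obj U := by
  classical
  haveI := (TopCat.Sheaf.pullbackPushforwardAdjunction (Type u) f).isEquivalence_right_of_isEquivalence_left
  suffices h : ∀ U V : Opens X, U ≤ V → (Opens.map f).obj U = (Opens.map f).obj V → V ≤ U by
    intro U V hUV
    have hI : (Opens.map f).obj (U ⊓ V) = (Opens.map f).obj U := Opens.ext (Set.inter_eq_left.2 ((le_of_eq hUV : (Opens.map f).obj U ≤ (Opens.map f).obj V)))
    exact le_antisymm ((h _ U inf_le_left hI).trans inf_le_right)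
      ((h _ V inf_le_right (hI.trans hUV)).trans inf_le_left)
  intro U V hle he w hwV
  by_contra hwU
  haveI := isIso_map_of_essSurj f hle he (fnSh X {w} (ULift.{u} (ZMod 2)))
  have hinj := (ConcreteCategory.bijective_of_isIso
    ((fnSh X {w} (ULift.{u} (ZMod 2))).obj.map (homOfLE hle).op)).1
  have h01 := hinj (a₁ := fun _ => (⟨1⟩ : ULift.{u} (ZMod 2))) (a₂ := fun _ => ⟨0⟩)
    (funext fun y => absurd (y.2.2 ▸ y.2.1) hwU)
  exact absurd (congrArg ULift.down (congrFun h01 ⟨w, hwV, rfl⟩)) (by decide)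

theorem injective_of_ab [(TopCat.Sheaf.pullback AddCommGrpCat.{u} f).IsEquivalence] :
    Function.Injective fun U : Opens X => (Opens.map f).obj U := by
  classical
  haveI := (TopCat.Sheaf.pullbackPushforwardAdjunction AddCommGrpCat.{u} f).isEquivalence_right_of_isEquivalence_left
  suffices h : ∀ U V : Opens X, U ≤ V → (Opens.map f).obj U = (Opens.map f).obj V → V ≤ U by
    intro U V hUV
    have hI : (Opens.map f).obj (U ⊓ V) = (Opens.map f).obj U := Opens.ext (Set.inter_eq_left.2 ((le_of_eq hUV : (Opens.map f).obj U ≤ (Opens.map f).obj V)))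
    exact le_antisymm ((h _ U inf_le_left hI).trans inf_le_right)
      ((h _ V inf_le_right (hI.trans hUV)).trans inf_le_left)
  intro U V hle he w hwV
  by_contra hwU
  haveI := isIso_map_of_essSurj f hle he (fnShAb X {w} (ULift.{u} (ZMod 2)))
  have hinj := (ConcreteCategory.bijective_of_isIso
    ((fnShAb X {w} (ULift.{u} (ZMod 2))).obj.map (homOfLE hle).op)).1
  have h01 := hinj (a₁ := fun _ => (⟨1⟩ : ULift.{u} (ZMod 2))) (a₂ := fun _ => ⟨0⟩)
    (funext fun y => absurd (y.2.2 ▸ y.2.1) hwU)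
  exact absurd (congrArg ULift.down (congrFun h01 ⟨w, hwV, rfl⟩)) (by decide)

/-- A natural family of maps out of functions on the complement of `W` vanishes at the points of `W`. -/
theorem eval_eq {Y : TopCat.{u}} {M : Type u} (W : Opens Y) (x₀ : Y) (hx : x₀ ∈ W)
    (ψ : fnPre Y ((W : Set Y)ᶜ) M ⟶ fnPre Y {x₀} M) (s t : (fnPre Y ((W : Set Y)ᶜ) M).obj (op ⊤)) :
    ψ.app (op ⊤) s ⟨x₀, trivial, rfl⟩ = ψ.app (op ⊤) t ⟨x₀, trivial, rfl⟩ := by
  have h1 := congrFun (ConcreteCategory.congr_hom (ψ.naturality (homOfLE (le_top : W ≤ ⊤)).op) s) ⟨x₀, hx, rfl⟩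
  have h2 := congrFun (ConcreteCategory.congr_hom (ψ.naturality (homOfLE (le_top : W ≤ ⊤)).op) t) ⟨x₀, hx, rfl⟩
  refine h1.symm.trans (Eq.trans ?_ h2)
  exact congrArg (fun r => ψ.app (op W) r ⟨x₀, hx, rfl⟩) (funext fun y => absurd y.2.1 y.2.2)

theorem evalAlong_const {M : Type u} [Zero M] [Finite M] (S : Set X₀) (x₀ : X₀) (l : Ultrafilter X₀)
    (hl : ∀ᶠ a in (l : Filter X₀), a ∈ S) (m : M) (y) :
    evalAlong (M := M) S x₀ l ⊤ (fun _ => m) y = m :=
  limVal_eq l (hl.mono fun a ha => extFn_apply (p := fun b => b ∈ (⊤ : Opens X₀) ∧ b ∈ S) _ ⟨trivial, ha⟩)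

theorem surjective_of_types [(TopCat.Sheaf.pullback (Type u) f).IsEquivalence] :
    Function.Surjective fun U : Opens X => (Opens.map f).obj U := by
  classical
  haveI := (TopCat.Sheaf.pullbackPushforwardAdjunction (Type u) f).isEquivalence_right_of_isEquivalence_left
  intro W
  refine ⟨sSup {V : Opens X | (Opens.map f).obj V ≤ W}, le_antisymm ?_ fun x₀ hx₀ => ?_⟩
  · intro x hx
    obtain ⟨V, hV, hxV⟩ := Opens.mem_sSup.1 (show f x ∈ sSup {V : Opens X | (Opens.map f).obj V ≤ W} from hx)
    exact hV hxV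
  by_contra hcon
  obtain ⟨l, hl⟩ := exists_ultrafilter f (W := W) (x₀ := x₀) fun V hV hle =>
    hcon (show f x₀ ∈ sSup _ from Opens.mem_sSup.2 ⟨V, hle, hV⟩)
  let M := ULift.{u} (ZMod 2)
  let φ : (TopCat.Sheaf.pushforward (Type u) f).obj (fnSh X₀ ((W : Set X₀)ᶜ) M) ⟶
      (TopCat.Sheaf.pushforward (Type u) f).obj (fnSh X₀ {x₀} M) :=
    ⟨{ app := fun V => TypeCat.ofHom (evalAlong (M := M) _ x₀ l ((Opens.map f).obj V.unop))
       naturality := fun V V' i => by
        ext s
        exact evalAlong_natural f _ x₀ l hl i.unop.le s }⟩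
  obtain ⟨ψ, hψ⟩ := (TopCat.Sheaf.pushforward (Type u) f).map_surjective φ
  have h : ∀ m : M, ψ.hom.app (op ⊤) (fun _ => m) ⟨x₀, trivial, rfl⟩ = m := fun m => by
    have h1 := congrArg (fun η => η.hom.app (op ⊤) (fun _ => m) ⟨x₀, trivial, rfl⟩) hψ
    refine (Eq.trans ?_ h1).trans ?_
    · rfl
    · exact evalAlong_const _ x₀ l ((hl ⊤ trivial).mono fun a ha => ha.2) m ⟨x₀, trivial, rfl⟩
  have h01 := (h ⟨1⟩).symm.trans ((eval_eq W x₀ hx₀ ψ.hom _ _).trans (h ⟨0⟩))
  exact absurd (congrArg ULift.down h01) (by decide)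

theorem surjective_of_ab [(TopCat.Sheaf.pullback AddCommGrpCat.{u} f).IsEquivalence] :
    Function.Surjective fun U : Opens X => (Opens.map f).obj U := by
  classical
  haveI := (TopCat.Sheaf.pullbackPushforwardAdjunction AddCommGrpCat.{u} f).isEquivalence_right_of_isEquivalence_left
  intro W
  refine ⟨sSup {V : Opens X | (Opens.map f).obj V ≤ W}, le_antisymm ?_ fun x₀ hx₀ => ?_⟩
  · intro x hx
    obtain ⟨V, hV, hxV⟩ := Opens.mem_sSup.1 (show f x ∈ sSup {V : Opens X | (Opens.map f).obj V ≤ W} from hx)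
    exact hV hxV
  by_contra hcon
  obtain ⟨l, hl⟩ := exists_ultrafilter f (W := W) (x₀ := x₀) fun V hV hle =>
    hcon (show f x₀ ∈ sSup _ from Opens.mem_sSup.2 ⟨V, hle, hV⟩)
  let M := ULift.{u} (ZMod 2)
  let φ : (TopCat.Sheaf.pushforward AddCommGrpCat.{u} f).obj (fnShAb X₀ ((W : Set X₀)ᶜ) M) ⟶
      (TopCat.Sheaf.pushforward AddCommGrpCat.{u} f).obj (fnShAb X₀ {x₀} M) :=
    ⟨{ app := fun V => AddCommGrpCat.ofHom (AddMonoidHom.mk'
          (evalAlong (M := M) _ x₀ l ((Opens.map f).obj V.unop)) (evalAlong_add _ x₀ l _))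
       naturality := fun V V' i => by
        ext s
        exact evalAlong_natural f _ x₀ l hl i.unop.le s }⟩
  obtain ⟨ψ, hψ⟩ := (TopCat.Sheaf.pushforward AddCommGrpCat.{u} f).map_surjective φ
  let ψ' : fnPre X₀ ((W : Set X₀)ᶜ) M ⟶ fnPre X₀ {x₀} M :=
    Functor.whiskerRight ψ.hom (CategoryTheory.forget AddCommGrpCat.{u})
  have h : ∀ m : M, ψ'.app (op ⊤) (fun _ => m) ⟨x₀, trivial, rfl⟩ = m := fun m => by
    have h1 := congrArg (fun η => η.hom.app (op ⊤) (fun _ => m) ⟨x₀, trivial, rfl⟩) hψ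
    refine (Eq.trans ?_ h1).trans ?_
    · rfl
    · exact evalAlong_const _ x₀ l ((hl ⊤ trivial).mono fun a ha => ha.2) m ⟨x₀, trivial, rfl⟩
  have h01 := (h ⟨1⟩).symm.trans ((eval_eq W x₀ hx₀ ψ' _ _).trans (h ⟨0⟩))
  exact absurd (congrArg ULift.down h01) (by decide)

theorem tfae_main :
    [Function.Bijective (fun U : Opens X => (Opens.map f).obj U),
      (TopCat.Sheaf.pullback (Type u) f).IsEquivalence,
      (TopCat.Sheaf.pullback AddCommGrpCat.{u} f).IsEquivalence].TFAE := by
  tfae_have 1 → 2 := pullback_isEquivalence_type f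
  tfae_have 1 → 3 := pullback_isEquivalence_ab f
  tfae_have 2 → 1 := fun h => by haveI := h; exact ⟨injective_of_types f, surjective_of_types f⟩
  tfae_have 3 → 1 := fun h => by haveI := h; exact ⟨injective_of_ab f, surjective_of_ab f⟩
  tfae_finish

end Groth.Agent.EGA43.QuasiHomeo
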