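import Mathlib.Topology.Sheaves.Functors
import Mathlib.Topology.Sheaves.SheafCondition.UniqueGluing
import Mathlib.Topology.Sheaves.LocalPredicate
import Mathlib.CategoryTheory.Sites.DenseSubsite.SheafEquiv
import Mathlib.CategoryTheory.Sites.Equivalence
import Mathlib.CategoryTheory.Adjunction.Limits
import Mathlib.Algebra.Category.Grp.Limits
import Mathlib.Algebra.Category.Grp.FilteredColimits
import Mathlib.Order.Filter.Ultrafilter.Defs
import Mathlib.Data.ZMod.Basic

/-!
# Quasi-homeomorphisms and inverse images of sheaves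
-/

set_option autoImplicit false
set_option linter.style.haveILetI false

universe u v w

open CategoryTheory CategoryTheory.Limits TopologicalSpace Opposite

namespace Groth.Agent.EGA43.QuasiHomeo

variable {X₀ X : TopCat.{u}} (f : X₀ ⟶ X)

/-- Functions with values in `M` on the traces of the open subsets on `S`. -/
def fnPre (Y : TopCat.{u}) (S : Set Y) (M : Type u) : TopCat.Presheaf (Type u) Y where
  obj U := ({y : Y // y ∈ U.unop ∧ y ∈ S} → M)
  map {U V} i := TypeCat.ofHom fun s y => s ⟨y.1, i.unop.le y.2.1, y.2.2⟩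

theorem fnPre_isSheaf (Y : TopCat.{u}) (S : Set Y) (M : Type u) : (fnPre Y S M).IsSheaf := by
  classical
  refine (TopCat.Presheaf.isSheaf_iff_isSheafUniqueGluing_types _).2 fun ι U sf hsf => ?_
  choose j hj using fun y : {y : Y // y ∈ iSup U ∧ y ∈ S} => Opens.mem_iSup.1 y.2.1
  refine ⟨fun y => sf (j y) ⟨y.1, hj y, y.2.2⟩, fun i => funext fun y => ?_, fun t ht => funext fun y => ?_⟩
  · exact congrFun (hsf (j ⟨y.1, Opens.mem_iSup.2 ⟨i, y.2.1⟩, y.2.2⟩) i) ⟨y.1, ⟨hj _, y.2.1⟩, y.2.2⟩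
  · exact congrFun (ht (j y)) ⟨y.1, hj y, y.2.2⟩

/-- Functions with values in an abelian group on the traces of the open subsets on `S`. -/
def fnPreAb (Y : TopCat.{u}) (S : Set Y) (M : Type u) [AddCommGroup M] :
    TopCat.Presheaf AddCommGrpCat.{u} Y where
  obj U := AddCommGrpCat.of ({y : Y // y ∈ U.unop ∧ y ∈ S} → M)
  map {U V} i := AddCommGrpCat.ofHom
    { toFun := fun s y => s ⟨y.1, i.unop.le y.2.1, y.2.2⟩
      map_zero' := rfl
      map_add' := fun _ _ => rfl }

theorem fnPreAb_isSheaf (Y : TopCat.{u}) (S : Set Y) (M : Type u) [AddCommGroup M] :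
    (fnPreAb Y S M).IsSheaf :=
  (TopCat.Presheaf.isSheaf_iff_isSheaf_comp' (CategoryTheory.forget AddCommGrpCat.{u}) _).2
    (fnPre_isSheaf Y S M)

/-- The sheaf of functions on `S`. -/
def fnSh (Y : TopCat.{u}) (S : Set Y) (M : Type u) : TopCat.Sheaf (Type u) Y :=
  ⟨fnPre Y S M, fnPre_isSheaf Y S M⟩

/-- The sheaf of groups of functions on `S`. -/
def fnShAb (Y : TopCat.{u}) (S : Set Y) (M : Type u) [AddCommGroup M] :
    TopCat.Sheaf AddCommGrpCat.{u} Y :=
  ⟨fnPreAb Y S M, fnPreAb_isSheaf Y S M⟩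

/-- The value of a function along an ultrafilter. -/
noncomputable def limVal {α : Type u} {M : Type u} [Finite M] (l : Ultrafilter α) (s : α → M) : M :=
  (show ∃ m, (fun a => s a = m) ∈ {p : α → Prop | ∀ᶠ a in (l : Filter α), p a} by
    cases nonempty_fintype M
    exact Ultrafilter.eventually_exists_iff.1 (Filter.Eventually.of_forall fun a => ⟨s a, rfl⟩)).choose

theorem limVal_spec {α : Type u} {M : Type u} [Finite M] (l : Ultrafilter α) (s : α → M) :
    ∀ᶠ a in (l : Filter α), s a = limVal l s :=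
  (show ∃ m, (fun a => s a = m) ∈ {p : α → Prop | ∀ᶠ a in (l : Filter α), p a} by
    cases nonempty_fintype M
    exact Ultrafilter.eventually_exists_iff.1 (Filter.Eventually.of_forall fun a => ⟨s a, rfl⟩)).choose_spec

theorem limVal_eq {α : Type u} {M : Type u} [Finite M] (l : Ultrafilter α) {s : α → M} {m : M}
    (h : ∀ᶠ a in (l : Filter α), s a = m) : limVal l s = m := by
  obtain ⟨a, ha, ha'⟩ := ((limVal_spec l s).and h).exists
  exact ha.symm.trans ha'

/-- The extension by zero of a function on a trace. -/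
noncomputable def extFn {Y : Type u} {M : Type u} [Zero M] {p : Y → Prop} (s : {y // p y} → M) (y : Y) : M := by
  classical exact if h : p y then s ⟨y, h⟩ else 0

theorem extFn_apply {Y : Type u} {M : Type u} [Zero M] {p : Y → Prop} (s : {y // p y} → M) {y : Y} (h : p y) :
    extFn s y = s ⟨y, h⟩ := dif_pos h

/-- The quotient maps from functions on `S` to functions at a point adherent to `S` along `f`. -/
noncomputable def evalAlong {M : Type u} [Zero M] [Finite M] (S : Set X₀) (x₀ : X₀) (l : Ultrafilter X₀)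
    (U : Opens X₀) (s : {y : X₀ // y ∈ U ∧ y ∈ S} → M) : {y : X₀ // y ∈ U ∧ y ∈ ({x₀} : Set X₀)} → M :=
  fun _ => limVal l (extFn s)

theorem evalAlong_add {M : Type u} [AddCommGroup M] [Finite M] (S : Set X₀) (x₀ : X₀) (l : Ultrafilter X₀)
    (U : Opens X₀) (s t : {y : X₀ // y ∈ U ∧ y ∈ S} → M) :
    evalAlong S x₀ l U (s + t) = evalAlong S x₀ l U s + evalAlong S x₀ l U t := by
  funext y
  refine limVal_eq l ?_
  filter_upwards [limVal_spec l (extFn s), limVal_spec l (extFn t)] with a hs ht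
  show extFn (s + t) a = limVal l (extFn s) + limVal l (extFn t)
  rw [← hs, ← ht]
  simp only [extFn]
  split_ifs <;> simp

theorem evalAlong_natural {M : Type u} [Zero M] [Finite M] (S : Set X₀) (x₀ : X₀) (l : Ultrafilter X₀)
    (hl : ∀ V : Opens X, f x₀ ∈ V → ∀ᶠ a in (l : Filter X₀), f a ∈ V ∧ a ∈ S)
    {V V' : Opens X} (i : V' ≤ V) (s : {y : X₀ // y ∈ (Opens.map f).obj V ∧ y ∈ S} → M) :
    evalAlong S x₀ l ((Opens.map f).obj V') (fun y => s ⟨y.1, i y.2.1, y.2.2⟩) =
      fun y => evalAlong S x₀ l ((Opens.map f).obj V) s ⟨y.1, i y.2.1, y.2.2⟩ := by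
  funext y
  obtain ⟨y, hyV, rfl⟩ := y
  refine limVal_eq l ?_
  filter_upwards [hl V' hyV, limVal_spec l (extFn s)] with a ha hs
  refine Eq.trans ?_ hs
  exact (extFn_apply (p := fun b => b ∈ (Opens.map f).obj V' ∧ b ∈ S) _ ha).trans
    (extFn_apply (p := fun b => b ∈ (Opens.map f).obj V ∧ b ∈ S) s ⟨i ha.1, ha.2⟩).symm

theorem exists_ultrafilter {W : Opens X₀} {x₀ : X₀}
    (h : ∀ V : Opens X, f x₀ ∈ V → ¬ (Opens.map f).obj V ≤ W) :
    ∃ l : Ultrafilter X₀, ∀ V : Opens X, f x₀ ∈ V → ∀ᶠ a in (l : Filter X₀), f a ∈ V ∧ a ∈ (W : Set X₀)ᶜ := by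
  haveI : ((nhds (f x₀)).comap f ⊓ Filter.principal ((W : Set X₀)ᶜ)).NeBot := by
    rw [Filter.inf_principal_neBot_iff]
    intro A hA
    obtain ⟨B, hB, hBA⟩ := Filter.mem_comap.1 hA
    obtain ⟨V, hVB, hVo, hxV⟩ := mem_nhds_iff.1 hB
    obtain ⟨a, haV, haW⟩ := SetLike.not_le_iff_exists.1 (h ⟨V, hVo⟩ hxV)
    exact ⟨a, hBA (hVB haV), haW⟩
  refine ⟨Ultrafilter.of ((nhds (f x₀)).comap f ⊓ Filter.principal ((W : Set X₀)ᶜ)), fun V hV => ?_⟩
  refine (Filter.inter_mem ?_ ?_ : f ⁻¹' (V : Set X) ∩ (W : Set X₀)ᶜ ∈ _)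
  · exact Ultrafilter.of_le _ (Filter.mem_inf_of_left (Filter.preimage_mem_comap (V.isOpen.mem_nhds hV)))
  · exact Ultrafilter.of_le _ (Filter.mem_inf_of_right (Filter.mem_principal_self _))

variable {A : Type v} [Category.{w} A]

theorem isEquivalence_map (h : Function.Bijective fun U : Opens X => (Opens.map f).obj U) :
    (Opens.map f).IsEquivalence := by
  have hle : ∀ U V : Opens X, (Opens.map f).obj U ≤ (Opens.map f).obj V → U ≤ V := fun U V hUV => by
    have h1 : (Opens.map f).obj (U ⊓ V) = (Opens.map f).obj U :=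
      Opens.ext (Set.inter_eq_left.2 hUV)
    exact inf_eq_left.1 (h.1 h1)
  haveI : (Opens.map f).Faithful := ⟨fun _ => Subsingleton.elim _ _⟩
  haveI : (Opens.map f).Full := ⟨fun {U V} i => ⟨homOfLE (hle U V i.le), Subsingleton.elim _ _⟩⟩
  haveI : (Opens.map f).EssSurj := ⟨fun W => ⟨(h.2 W).choose, ⟨eqToIso (h.2 W).choose_spec⟩⟩⟩
  exact Functor.IsEquivalence.mk

theorem isDenseSubsite_map (h : Function.Bijective fun U : Opens X => (Opens.map f).obj U) :
    (Opens.map f).IsDenseSubsite (Opens.grothendieckTopology X) (Opens.grothendieckTopology X₀) := by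
  haveI := isEquivalence_map f h
  refine { functorPushforward_mem_iff := fun {U S} => ⟨fun hS x hx => ?_, fun hS => ?_⟩ }
  · by_contra hcon
    push Not at hcon
    let T : Opens X := sSup {V : Opens X | ∃ i : V ⟶ U, S i}
    have hT : (Opens.map f).obj (U ⊓ T) = (Opens.map f).obj U := by
      refine le_antisymm (fun y hy => hy.1) fun y hy => ⟨hy, ?_⟩
      obtain ⟨W, i, ⟨V, i', j, hV, -⟩, hyW⟩ := hS y hy
      exact Opens.mem_sSup.2 ⟨V, ⟨i', hV⟩, j.le hyW⟩
    have hx' : x ∈ U ⊓ T := by rw [h.1 hT]; exact hx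
    obtain ⟨V, ⟨i, hV⟩, hxV⟩ := Opens.mem_sSup.1 hx'.2
    exact hcon V i hV hxV
  · exact (coverPreserving_opens_map f).cover_preserve hS

end Groth.Agent.EGA43.QuasiHomeo
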